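import Cfsg.Agent.H88.FieldB
import Cfsg.Agent.H64.PpdC

set_option autoImplicit false

/-! S4609, piece GN12: the group theoretic end, `p = 2` or rank at most 2. -/

namespace Cfsg.Agent.H40.GN12

/-! ### arithmetic -/

theorem two_sq_two {k : ℕ} {m : ℤ} (hm : m % 4 = 3) : ∀ a b : ℤ, a ^ 2 + b ^ 2 = 2 ^ k * m → False := by
  induction k with
  | zero =>
    intro a b h
    rw [pow_zero, one_mul] at h
    rcases Int.emod_two_eq_zero_or_one a with ha | ha <;>
    rcases Int.emod_two_eq_zero_or_one b with hb | hb <;>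
    · obtain ⟨c, hc⟩ : ∃ c, a = 2 * c + a % 2 := ⟨a / 2, by omega⟩
      obtain ⟨d, hd⟩ : ∃ d, b = 2 * d + b % 2 := ⟨b / 2, by omega⟩
      rw [ha] at hc
      rw [hb] at hd
      subst hc
      subst hd
      ring_nf at h
      omega
  | succ k ih =>
    intro a b h
    have hpar : (a + b) % 2 = 0 := by
      have h1 : (a ^ 2 + b ^ 2) % 2 = 0 := by
        rw [h, pow_succ]
        have : (2 : ℤ) ^ k * 2 * m = 2 * (2 ^ k * m) := by ring
        rw [this]
        exact Int.mul_emod_right 2 _
      rcases Int.emod_two_eq_zero_or_one a with ha | ha <;>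
      rcases Int.emod_two_eq_zero_or_one b with hb | hb <;>
      · obtain ⟨c, hc⟩ : ∃ c, a = 2 * c + a % 2 := ⟨a / 2, by omega⟩
        obtain ⟨d, hd⟩ : ∃ d, b = 2 * d + b % 2 := ⟨b / 2, by omega⟩
        rw [ha] at hc
        rw [hb] at hd
        subst hc
        subst hd
        ring_nf at h1
        omega
    obtain ⟨u, hu⟩ : ∃ u, a + b = 2 * u := ⟨(a + b) / 2, by omega⟩
    refine ih u (a - u) ?_
    have hb : b = 2 * u - a := by linarith
    have h2 : (2 : ℤ) * (u ^ 2 + (a - u) ^ 2) = 2 * (2 ^ k * m) := by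
      have : (2 : ℤ) * (2 ^ k * m) = 2 ^ (k + 1) * m := by rw [pow_succ]; ring
      rw [this, ← h, hb]
      ring
    exact mul_left_cancel₀ (by norm_num) h2

theorem mod4_aux : ∀ a b s : ZMod 4, a ^ 2 + b ^ 2 = -(s * s) → s = 0 ∨ s = 2 := by decide

variable {E W : Type*} [Group E] [Finite E] [CommGroup W] [Finite W]
  [MulDistribMulAction E W]

theorem card_eq (htr : ∀ v w : W, v ≠ 1 → w ≠ 1 → ∃ g : E, g • v = w) {w : W} (hw : w ≠ 1) :
    Nat.card E = (Nat.card W - 1) * Nat.card (MulAction.stabilizer E w) := by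
  have h1 : MulAction.orbit E w = ({1} : Set W)ᶜ := by
    ext v
    rw [MulAction.mem_orbit_iff, Set.mem_compl_iff, Set.mem_singleton_iff]
    constructor
    · rintro ⟨g, rfl⟩ h
      apply hw
      have : g⁻¹ • (g • w) = g⁻¹ • (1 : W) := by rw [h]
      rwa [inv_smul_smul, smul_one] at this
    · intro hv
      exact htr w v hw hv
  have h2 : (MulAction.stabilizer E w).index = Nat.card W - 1 := by
    rw [MulAction.index_stabilizer, h1, Set.ncard_compl, Set.ncard_singleton]
  rw [← h2, Subgroup.index_mul_card]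

/-- automorphisms of a group of prime order form a cyclic group -/
theorem cyc_mulAut {Q : Type*} [CommGroup Q] {p : ℕ} [Fact p.Prime] (h : Nat.card Q = p) :
    IsCyclic (MulAut Q) := by
  haveI : IsCyclic Q := isCyclic_of_prime_card h
  haveI : IsCyclic (ZMod (Nat.card Q))ˣ := by
    rw [h]
    infer_instance
  exact isCyclic_of_injective (IsCyclic.mulAutMulEquiv Q).toMonoidHom
    (IsCyclic.mulAutMulEquiv Q).injective

theorem eq_of_isConj_cyclic [IsCyclic E] {g h : E} (hgh : IsConj g h) : g = h := by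
  rw [isConj_iff] at hgh
  obtain ⟨c, hc⟩ := hgh
  letI := IsCyclic.commGroup (α := E)
  rw [← hc, mul_comm c g]
  simp

/-- the hom to the automorphisms of the quotient by `⟨w⟩` -/
noncomputable def quoHom (w : W) :
    MulAction.stabilizer E w →* MulAut (W ⧸ Subgroup.zpowers w) where
  toFun g := QuotientGroup.congr (Subgroup.zpowers w) (Subgroup.zpowers w)
    (MulDistribMulAction.toMulEquiv W (g : E)) (by
      rw [MonoidHom.map_zpowers]
      congr 1
      exact g.2)
  map_one' := by
    apply MulEquiv.ext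
    intro v
    induction v using QuotientGroup.induction_on with
    | H v =>
      change (QuotientGroup.mk ((1 : E) • v) : W ⧸ Subgroup.zpowers w) = QuotientGroup.mk v
      rw [one_smul]
  map_mul' g h := by
    apply MulEquiv.ext
    intro v
    induction v using QuotientGroup.induction_on with
    | H v =>
      change (QuotientGroup.mk (((g : E) * (h : E)) • v) : W ⧸ Subgroup.zpowers w) =
        QuotientGroup.mk ((g : E) • (h : E) • v)
      rw [mul_smul]

theorem quoHom_apply (w : W) (g : MulAction.stabilizer E w) (v : W) :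
    quoHom w g (QuotientGroup.mk v) = QuotientGroup.mk ((g : E) • v) := rfl

theorem quoHom_injective [FaithfulSMul E W] {p : ℕ} [hp : Fact p.Prime] (hW : ∀ w : W, w ^ p = 1)
    (hpE : ¬ p ∣ Nat.card E) (w : W) : Function.Injective (quoHom (E := E) w) := by
  rw [injective_iff_map_eq_one]
  intro g hg
  apply Subtype.ext
  apply FaithfulSMul.eq_of_smul_eq_smul (α := W)
  intro v
  change (g : E) • v = (1 : E) • v
  rw [one_smul]
  have h1 : (QuotientGroup.mk ((g : E) • v) : W ⧸ Subgroup.zpowers w) = QuotientGroup.mk v := by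
    rw [← quoHom_apply, hg]
    rfl
  rw [eq_comm, QuotientGroup.eq] at h1
  obtain ⟨c, hc⟩ : ∃ c : W, c = v⁻¹ * (g : E) • v := ⟨_, rfl⟩
  have hgv : (g : E) • v = v * c := by rw [hc]; simp
  rw [← hc, Subgroup.mem_zpowers_iff] at h1
  obtain ⟨k, hk⟩ := h1
  have hgc : (g : E) • c = c := by
    rw [← hk, smul_zpow']
    congr 1
    exact g.2
  have hn : ∀ n : ℕ, (g : E) ^ n • v = v * c ^ n := by
    intro n
    induction n with
    | zero => simp
    | succ n ih => rw [pow_succ', mul_smul, ih, smul_mul', hgv, smul_pow', hgc, pow_succ']; group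
  have h2 := hn (orderOf (g : E))
  rw [pow_orderOf_eq_one, one_smul] at h2
  have h3 : c ^ orderOf (g : E) = 1 := by
    have := h2.symm
    rwa [mul_eq_left] at this
  have h4 : orderOf c ∣ orderOf (g : E) := orderOf_dvd_of_pow_eq_one h3
  have h5 : orderOf c ∣ p := orderOf_dvd_of_pow_eq_one (hW c)
  rcases (Nat.dvd_prime hp.out).mp h5 with h6 | h6
  · rw [orderOf_eq_one_iff] at h6
    rw [hgv, h6, mul_one]
  · exact absurd ((h6 ▸ h4).trans (orderOf_dvd_natCard _)) hpE

section rank2

variable [FaithfulSMul E W] [Nontrivial W] (p : ℕ) [hp : Fact p.Prime] (hW : ∀ w : W, w ^ p = 1)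
  (hpE : ¬ p ∣ Nat.card E)
include hW hpE

theorem orderOf_eq {w : W} (hw : w ≠ 1) : orderOf w = p := orderOf_eq_prime (hW w) hw

theorem stab_trivial (h4' : ∀ w : W, w ≠ 1 → IsCyclic (MulAction.stabilizer E w) →
      Nat.card (MulAction.stabilizer E w) = 1) (hr : Nat.card W = p ^ 2) {w : W} (hw : w ≠ 1)
    {g : E} (hg : g • w = w) : g = 1 := by
  have hQ : Nat.card (W ⧸ Subgroup.zpowers w) = p := by
    have h1 := Subgroup.card_eq_card_quotient_mul_card_subgroup (Subgroup.zpowers w)
    rw [Nat.card_zpowers, orderOf_eq p hW hpE hw, hr, pow_two] at h1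
    exact (Nat.eq_of_mul_eq_mul_right hp.out.pos h1).symm
  haveI := cyc_mulAut hQ
  have hcyc : IsCyclic (MulAction.stabilizer E w) :=
    isCyclic_of_injective (quoHom w) (quoHom_injective hW hpE w)
  have h1 := h4' w hw hcyc
  haveI := (Nat.card_eq_one_iff_unique.mp h1).1
  exact congrArg Subtype.val (Subsingleton.elim (⟨g, hg⟩ : MulAction.stabilizer E w) 1)

theorem inv_of_sq (h4' : ∀ w : W, w ≠ 1 → IsCyclic (MulAction.stabilizer E w) →
      Nat.card (MulAction.stabilizer E w) = 1) (hr : Nat.card W = p ^ 2) {z : E} (hz : z * z = 1)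
    (hz1 : z ≠ 1) (w : W) : z • w = w⁻¹ := by
  by_contra hcon
  have h1 : w * z • w ≠ 1 := by
    intro h
    apply hcon
    rw [eq_comm, inv_eq_iff_mul_eq_one]
    exact h
  apply hz1
  apply stab_trivial p hW hpE h4' hr h1
  rw [smul_mul', ← mul_smul, hz, one_smul, mul_comm]

theorem rank_two_main (hp2 : p ≠ 2) (htr : ∀ v w : W, v ≠ 1 → w ≠ 1 → ∃ g : E, g • v = w)
    (Good : E → Prop)
    (h2 : ∀ g, IsCyclic (Subgroup.centralizer ({g} : Set E)) → Good g)
    (h3 : ∀ g h, Good g → Good h → g ≠ 1 → h ≠ 1 → IsConj g h)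
    (h4' : ∀ w : W, w ≠ 1 → IsCyclic (MulAction.stabilizer E w) →
      Nat.card (MulAction.stabilizer E w) = 1)
    (h5 : ∃ a b : ℕ, Nat.card E = a ^ 2 + b ^ 2) (hr : Nat.card W = p ^ 2) : False := by
  classical
  have hp3 : 3 ≤ p := by
    have := hp.out.two_le
    omega
  obtain ⟨w₀, hw₀⟩ := exists_ne (1 : W)
  have hcard : Nat.card E = p ^ 2 - 1 := by
    rw [card_eq htr hw₀, hr]
    have : Nat.card (MulAction.stabilizer E w₀) = 1 := by
      rw [Subgroup.card_eq_one, eq_bot_iff]
      intro g hg
      exact Subgroup.mem_bot.mpr (stab_trivial p hW hpE h4' hr hw₀ hg)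
    rw [this, mul_one]
  have hodd : Odd p := hp.out.odd_of_ne_two hp2
  have hfac : p ^ 2 - 1 = (p + 1) * (p - 1) := by
    have := Nat.sq_sub_sq p 1
    rwa [one_pow] at this
  have heven : 2 ∣ Nat.card E := by
    rw [hcard, hfac]
    obtain ⟨k, hk⟩ := hodd
    exact Dvd.dvd.mul_right ⟨k + 1, by omega⟩ _
  haveI : Fact (Nat.Prime 2) := ⟨Nat.prime_two⟩
  obtain ⟨z, hz⟩ := exists_prime_orderOf_dvd_card' 2 heven
  have hz1 : z ≠ 1 := by
    intro h
    rw [h, orderOf_one] at hz
    omega
  have hzz : z * z = 1 := by rw [← pow_two, ← hz, pow_orderOf_eq_one]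
  have hzinv := inv_of_sq p hW hpE h4' hr hzz hz1
  have hzc : ∀ g : E, z * g = g * z := by
    intro g
    apply FaithfulSMul.eq_of_smul_eq_smul (α := W)
    intro w
    rw [mul_smul, mul_smul, hzinv, hzinv, smul_inv']
  rcases Nat.eq_two_pow_or_exists_odd_prime_and_dvd (p + 1) with ⟨a, ha⟩ | ⟨q, hq, hqd, hqo⟩
  · -- `p + 1` is a power of 2
    have ha2 : 2 ≤ a := by
      by_contra hcon
      push Not at hcon
      have : 2 ^ a ≤ 2 ^ 1 := Nat.pow_le_pow_right (by norm_num) (by omega)
      omega
    obtain ⟨b, rfl⟩ : ∃ b, a = b + 2 := ⟨a - 2, by omega⟩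
    rcases Nat.eq_zero_or_pos b with hb | hb
    · -- `p = 3`
      subst hb
      have hp3' : p = 3 := by
        norm_num at ha
        omega
      have hE8 : Nat.card E = 8 := by rw [hcard, hp3']; norm_num
      have hirr : ∀ g : E, g ≠ 1 → g ≠ z → ∀ U : Subgroup W, (∀ u ∈ U, g • u ∈ U) →
          U = ⊥ ∨ U = ⊤ := by
        intro g hg1 hgz U hU
        by_contra hcon
        push Not at hcon
        obtain ⟨i, hi, hUi⟩ := (Nat.dvd_prime_pow hp.out).mp (hr ▸ Subgroup.card_subgroup_dvd_card U)
        have hi1 : i = 1 := by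
          rcases Nat.lt_or_ge i 1 with h | h
          · exfalso
            apply hcon.1
            rw [← Subgroup.card_eq_one, hUi]
            have : i = 0 := by omega
            rw [this, pow_zero]
          · rcases Nat.lt_or_ge i 2 with h' | h'
            · omega
            · exfalso
              apply hcon.2
              apply Subgroup.eq_top_of_card_eq
              have : i = 2 := by omega
              rw [hUi, hr, this]
        rw [hi1, pow_one, hp3'] at hUi
        obtain ⟨u, hu, hu1⟩ : ∃ u ∈ U, u ≠ 1 := by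
          by_contra h
          push Not at h
          apply hcon.1
          rw [eq_bot_iff]
          intro u hu
          exact Subgroup.mem_bot.mpr (h u hu)
        have hou : orderOf u = 3 := by rw [← hp3']; exact orderOf_eq p hW hpE hu1
        have hUz : U = Subgroup.zpowers u := by
          symm
          apply Subgroup.eq_of_le_of_card_ge
          · rw [Subgroup.zpowers_le]; exact hu
          · rw [hUi, Nat.card_zpowers, hou]
        have hgu := hU u hu
        rw [hUz, mem_zpowers_iff_mem_range_orderOf, hou] at hgu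
        simp only [Finset.mem_image, Finset.mem_range] at hgu
        obtain ⟨k, hk, hk'⟩ := hgu
        interval_cases k
        · rw [pow_zero] at hk'
          apply hu1
          have : g⁻¹ • (g • u) = g⁻¹ • (1 : W) := by rw [← hk']
          rwa [inv_smul_smul, smul_one] at this
        · rw [pow_one] at hk'
          exact hg1 (stab_trivial p hW hpE h4' hr hu1 hk'.symm)
        · have h1 : u ^ 2 = u⁻¹ := by
            rw [eq_inv_iff_mul_eq_one, ← pow_succ]
            have h9 := pow_orderOf_eq_one u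
            rwa [hou] at h9
          rw [h1, ← hzinv] at hk'
          have h2 : z⁻¹ * g = 1 := by
            apply stab_trivial p hW hpE h4' hr hu1
            rw [mul_smul, ← hk', inv_smul_smul]
          exact hgz (inv_mul_eq_one.mp h2).symm
      have hgood : ∀ g : E, g ≠ 1 → g ≠ z → Good g := fun g hg1 hgz =>
        h2 g (Cfsg.Agent.H88.FB.isCyclic_centralizer (p := p) hW (hirr g hg1 hgz))
      -- there is an element outside {1, z}
      obtain ⟨g, hg⟩ : ∃ g : E, g ∉ ({1, z} : Set E) := by
        by_contra hcon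
        push Not at hcon
        have h1 : (Set.univ : Set E) ⊆ {1, z} := fun g _ => hcon g
        have h2 := Set.ncard_le_ncard h1 (Set.toFinite _)
        rw [Set.ncard_univ, hE8, Set.ncard_pair hz1.symm] at h2
        omega
      rw [Set.mem_insert_iff, Set.mem_singleton_iff, not_or] at hg
      have horb : MulAction.orbit (ConjAct E) g = ({1, z} : Set E)ᶜ := by
        ext h
        rw [ConjAct.mem_orbit_conjAct, Set.mem_compl_iff, Set.mem_insert_iff,
          Set.mem_singleton_iff, not_or]
        constructor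
        · intro hc
          rw [isConj_iff] at hc
          obtain ⟨c, hc⟩ := hc
          have hh : h = c⁻¹ * g * c := by rw [← hc]; group
          refine ⟨fun h1 => hg.1 ?_, fun h1 => hg.2 ?_⟩
          · rw [← hc, h1]; group
          · rw [← hc, h1, ← hzc c]; group
        · intro hh
          exact h3 h g (hgood h hh.1 hh.2) (hgood g hg.1 hg.2) hh.1 hg.1
      have h6 := MulAction.index_stabilizer (ConjAct E) g
      rw [horb, Set.ncard_compl, Set.ncard_pair hz1.symm, hE8] at h6
      have h7 := Subgroup.index_dvd_card (MulAction.stabilizer (ConjAct E) g)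
      rw [h6] at h7
      have h8 : Nat.card (ConjAct E) = 8 := hE8
      rw [h8] at h7
      revert h7
      decide
    · -- `p + 1 = 2 ^ (b + 2)`, `b ≥ 1`
      obtain ⟨c, rfl⟩ : ∃ c, b = c + 1 := ⟨b - 1, by omega⟩
      obtain ⟨x, y, hxy⟩ := h5
      refine two_sq_two (k := c + 4) (m := 2 * 2 ^ (c + 1) - 1) ?_ (x : ℤ) (y : ℤ) ?_
      · rw [pow_succ]
        omega
      · have hp' : (p : ℤ) = 2 ^ (c + 1 + 2) - 1 := by
          have : ((p + 1 : ℕ) : ℤ) = ((2 ^ (c + 1 + 2) : ℕ) : ℤ) := by rw [ha]
          push_cast at this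
          linarith
        have h1 : ((Nat.card E : ℕ) : ℤ) = (p : ℤ) ^ 2 - 1 := by
          rw [hcard, Nat.cast_sub (Nat.one_le_pow _ _ hp.out.pos)]
          push_cast
          ring
        have h2 : ((x : ℤ) ^ 2 + (y : ℤ) ^ 2) = (p : ℤ) ^ 2 - 1 := by
          rw [← h1, hxy]
          push_cast
          ring
        rw [h2, hp']
        ring
  · -- an odd prime `q` divides `p + 1`
    have hq2 : q ≠ 2 := by
      rintro rfl
      exact absurd hqo (by decide)
    have hqr : q ∣ p ^ 2 - 1 := by rw [hfac]; exact hqd.mul_right _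
    have hppd : ∀ i, 0 < i → i < 2 → ¬ q ∣ p ^ i - 1 := by
      intro i hi hi2 h
      have : i = 1 := by omega
      subst this
      rw [pow_one] at h
      have h1 : q ∣ (p + 1) - (p - 1) := Nat.dvd_sub hqd h
      have h2 : (p + 1) - (p - 1) = 2 := by omega
      rw [h2] at h1
      exact hq2 ((Nat.prime_dvd_prime_iff_eq hq Nat.prime_two).mp h1)
    haveI := Fact.mk hq
    obtain ⟨x, hx⟩ := exists_prime_orderOf_dvd_card' q (hcard ▸ hqr : q ∣ Nat.card E)
    have hirr := Cfsg.Agent.H64.PC.irr_of_ppd (W := W) hp.out hr hq hqr hppd hx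
    have hcyc : IsCyclic (Subgroup.centralizer ({x} : Set E)) :=
      Cfsg.Agent.H88.FB.isCyclic_centralizer (p := p) hW (fun U hU => hirr U hU)
    have hx1 : x ≠ 1 := by
      intro h
      rw [h, orderOf_one] at hx
      exact hq.one_lt.ne hx
    obtain ⟨c, hc⟩ := hcyc.exists_generator
    have hxC : x ∈ Subgroup.centralizer ({x} : Set E) := by
      rw [Subgroup.mem_centralizer_singleton_iff]
    have hxc : x ∈ Subgroup.zpowers (c : E) := by
      obtain ⟨k, hk⟩ := Subgroup.mem_zpowers_iff.mp (hc ⟨x, hxC⟩)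
      exact Subgroup.mem_zpowers_iff.mpr ⟨k, by rw [← Subgroup.coe_zpow, hk]⟩
    have hCC : Subgroup.centralizer ({(c : E)} : Set E) = Subgroup.centralizer ({x} : Set E) := by
      apply le_antisymm
      · intro y hy
        rw [Subgroup.mem_centralizer_singleton_iff] at hy ⊢
        obtain ⟨k, hk⟩ := Subgroup.mem_zpowers_iff.mp hxc
        rw [← hk]
        exact (Commute.zpow_right (show Commute y (c : E) from hy) k)
      · intro y hy
        rw [Subgroup.mem_centralizer_singleton_iff]
        obtain ⟨k, hk⟩ := Subgroup.mem_zpowers_iff.mp (hc ⟨y, hy⟩)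
        have : y = (c : E) ^ k := by rw [← Subgroup.coe_zpow, hk]
        rw [this]
        exact (Commute.zpow_left (Commute.refl (c : E)) k)
    have hcg : Good (c : E) := h2 _ (by rw [hCC]; exact hcyc)
    have hc1 : (c : E) ≠ 1 := by
      intro h
      rw [h, Subgroup.zpowers_one_eq_bot, Subgroup.mem_bot] at hxc
      exact hx1 hxc
    have hconj := h3 _ _ hcg (h2 x hcyc) hc1 hx1
    have hoc : orderOf (c : E) = q := by
      rw [isConj_iff] at hconj
      obtain ⟨d, hd⟩ := hconj
      have h9 := (MulAut.conj d).orderOf_eq (c : E)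
      rw [MulAut.conj_apply, hd, hx] at h9
      exact h9.symm
    have hzC : z ∈ Subgroup.centralizer ({x} : Set E) := by
      rw [Subgroup.mem_centralizer_singleton_iff]
      exact hzc x
    obtain ⟨k, hk⟩ := Subgroup.mem_zpowers_iff.mp (hc ⟨z, hzC⟩)
    have hzk : z = (c : E) ^ k := by rw [← Subgroup.coe_zpow, hk]
    have h6 : orderOf z ∣ q := by
      apply orderOf_dvd_of_pow_eq_one
      rw [hzk, ← zpow_natCast, ← zpow_mul, mul_comm, zpow_mul, zpow_natCast, ← hoc,
        pow_orderOf_eq_one, one_zpow]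
    rw [hz] at h6
    exact hq2 ((Nat.prime_dvd_prime_iff_eq Nat.prime_two hq).mp h6).symm

end rank2

/-- piece GN12 of S4609 -/
theorem main {E W : Type*} [Group E] [Finite E] [CommGroup W] [Finite W] [Nontrivial W]
    [MulDistribMulAction E W] [FaithfulSMul E W] (p : ℕ) [Fact p.Prime]
    (hW : ∀ w : W, w ^ p = 1) (hpE : ¬ p ∣ Nat.card E)
    (htr : ∀ v w : W, v ≠ 1 → w ≠ 1 → ∃ g : E, g • v = w) (Good : E → Prop)
    (h2 : ∀ g, IsCyclic (Subgroup.centralizer ({g} : Set E)) → Good g)
    (h3 : ∀ g h, Good g → Good h → g ≠ 1 → h ≠ 1 → IsConj g h)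
    (h4 : ∀ w : W, w ≠ 1 → IsSquare (Nat.card (MulAction.stabilizer E w)))
    (h4' : ∀ w : W, w ≠ 1 → IsCyclic (MulAction.stabilizer E w) →
      Nat.card (MulAction.stabilizer E w) = 1)
    (h5 : ∃ a b : ℕ, Nat.card E = a ^ 2 + b ^ 2)
    (_h6 : ∀ q : ℕ, q.Prime → (∀ g : E, Good g → g ≠ 1 → ¬ ∃ k, orderOf g = q ^ k) →
      Even ((Nat.card E).factorization q))
    {r : ℕ} (hr : Nat.card W = p ^ r) (h : p = 2 ∨ r ≤ 2) : Nat.card W ≤ 3 := by
  classical
  have hp := (Fact.out : p.Prime)
  obtain ⟨w₀, hw₀⟩ := exists_ne (1 : W)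
  have hr0 : r ≠ 0 := by
    rintro rfl
    rw [pow_zero] at hr
    haveI := (Nat.card_eq_one_iff_unique.mp hr).1
    exact hw₀ (Subsingleton.elim _ _)
  by_cases hp2 : p = 2
  · -- `p = 2`
    subst hp2
    rcases Nat.lt_or_ge r 2 with hr2 | hr2
    · have : r = 1 := by omega
      rw [hr, this]
      norm_num
    · exfalso
      obtain ⟨s, hs⟩ := h4 w₀ hw₀
      obtain ⟨a, b, hab⟩ := h5
      have h1 := card_eq htr hw₀
      rw [hs, hr] at h1
      have hsodd : ¬ 2 ∣ s := fun h => hpE (h1 ▸ (h.mul_right s).mul_left _)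
      obtain ⟨t, ht⟩ : ∃ t, r = t + 2 := ⟨r - 2, by omega⟩
      have h2pos : 1 ≤ 2 ^ r := Nat.one_le_pow _ _ (by norm_num)
      have h7 : ((a : ZMod 4)) ^ 2 + (b : ZMod 4) ^ 2 = -((s : ZMod 4) * (s : ZMod 4)) := by
        have h8 : (((Nat.card E : ℕ)) : ZMod 4) = ((a ^ 2 + b ^ 2 : ℕ) : ZMod 4) := by rw [hab]
        rw [h1] at h8
        push_cast [Nat.cast_sub h2pos] at h8
        rw [← h8, ht, pow_add]
        have : (2 : ZMod 4) ^ 2 = 0 := by decide
        rw [this, mul_zero]
        ring
      rcases mod4_aux _ _ _ h7 with h8 | h8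
      · have : ((s : ℕ) : ZMod 4) = ((0 : ℕ) : ZMod 4) := by rw [h8]; simp
        rw [ZMod.natCast_eq_natCast_iff] at this
        unfold Nat.ModEq at this
        omega
      · have : ((s : ℕ) : ZMod 4) = ((2 : ℕ) : ZMod 4) := by rw [h8]; simp
        rw [ZMod.natCast_eq_natCast_iff] at this
        unfold Nat.ModEq at this
        omega
  · have hr2 : r ≤ 2 := by
      rcases h with h | h
      · exact absurd h hp2
      · exact h
    have hp3 : 3 ≤ p := by
      have := hp.two_le
      omega
    rcases Nat.lt_or_ge r 2 with hr1 | hr1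
    · -- `r = 1`
      have hr1' : r = 1 := by omega
      rw [hr1', pow_one] at hr
      haveI := cyc_mulAut (Q := W) hr
      haveI hcE : IsCyclic E := by
        refine isCyclic_of_injective (MulDistribMulAction.toMulAut E W) ?_
        intro g h hgh
        apply FaithfulSMul.eq_of_smul_eq_smul (α := W)
        intro w
        exact congrArg (fun f : MulAut W => f w) hgh
      have hall : ∀ g : E, Good g := fun g => h2 g inferInstance
      have heq : ∀ g h : E, g ≠ 1 → h ≠ 1 → g = h := fun g h hg hh =>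
        eq_of_isConj_cyclic (h3 g h (hall g) (hall h) hg hh)
      have hE2 : Nat.card E ≤ 2 := by
        by_cases hex : ∃ g : E, g ≠ 1
        · obtain ⟨g, hg⟩ := hex
          have h1 : (Set.univ : Set E) ⊆ {1, g} := by
            intro h _
            by_cases hh : h = 1
            · exact Or.inl hh
            · exact Or.inr (heq h g hh hg)
          have h2 := Set.ncard_le_ncard h1 (Set.toFinite _)
          rw [Set.ncard_univ, Set.ncard_pair hg.symm] at h2
          exact h2
        · push Not at hex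
          have : Nat.card E = 1 := by
            rw [Nat.card_eq_one_iff_unique]
            exact ⟨⟨fun a b => by rw [hex a, hex b]⟩, ⟨1⟩⟩
          omega
      have h1 := card_eq htr hw₀
      have h2 : Nat.card W - 1 ≤ Nat.card E := by
        rw [h1]
        exact Nat.le_mul_of_pos_right _ Nat.card_pos
      omega
    · -- `r = 2`
      exfalso
      have hr2' : r = 2 := by omega
      rw [hr2'] at hr
      exact rank_two_main p hW hpE hp2 htr Good h2 h3 h4' h5 hr

end Cfsg.Agent.H40.GN12
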