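import Cfsg.Agent.H40.EvenR
import Cfsg.Agent.Bal.Quot
import Cfsg.Agent.Solv.Core
import Cfsg.Agent.BS.Base
import Cfsg.Agent.FT.Base

/-!
# Abelian centralizers of involutions

`main`: a nonsolvable finite group `G` with an abelian subgroup `A` containing two different involutions, such
that `C_G(e) ≤ A` for every involution `e` of `A`, satisfies `G / O(G) ≃* PSL(2, 2 ^ n)`, `n ≥ 2`
(by Bender's theorem on strongly embedded subgroups).
-/

set_option autoImplicit false

namespace Cfsg.Agent.H40.EvenL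

open Subgroup

section
variable {G : Type*} [Group G] [Finite G]

theorem AbC.quot (h : AbC G) (O : Subgroup G) [O.Normal] (hcop : (Nat.card O).Coprime 2) : AbC (G ⧸ O) := by
  have hf2' := Fact.mk Nat.prime_two
  intro t ht1 ht2 a b ha hb
  set π := QuotientGroup.mk' O with hπ
  have hπs : Function.Surjective π := QuotientGroup.mk'_surjective O
  have hker : π.ker = O := QuotientGroup.ker_mk' O
  have hkc : (Nat.card π.ker).Coprime 2 := by rw [hker]; exact hcop
  have hodd : Odd (Nat.card O) := Nat.coprime_two_right.1 hcop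
  obtain ⟨s₀, hs₀⟩ := hπs t
  have h1 : s₀ * s₀ ∈ O := by
    rw [← hker, MonoidHom.mem_ker, map_mul, hs₀, ht2]
  have h2 : (s₀ * s₀) ^ (Nat.card O) = 1 := by
    have : (⟨s₀ * s₀, h1⟩ : O) ^ (Nat.card O) = 1 := pow_card_eq_one'
    exact congrArg Subtype.val this
  set s := s₀ ^ (Nat.card O) with hs
  have hs2 : s * s = 1 := by
    rw [hs, ← pow_add, ← two_mul, pow_mul, pow_two]
    exact h2
  have hst : π s = t := by
    rw [hs, map_pow, hs₀]
    obtain ⟨m, hm⟩ := hodd
    rw [hm, pow_succ, pow_mul, pow_two, ht2, one_pow, one_mul]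
  have hs1 : s ≠ 1 := by
    intro h0
    rw [h0, map_one] at hst
    exact ht1 hst.symm
  have hmap := Bal.map_centralizer_singleton (p := 2) π hπs hkc (x := s) (order_of_sq hs2)
  rw [hst] at hmap
  have ha' : a ∈ (centralizer ({s} : Set G)).map π := by
    rw [hmap]
    exact mem_centralizer_singleton_iff.2 ha
  have hb' : b ∈ (centralizer ({s} : Set G)).map π := by
    rw [hmap]
    exact mem_centralizer_singleton_iff.2 hb
  obtain ⟨a', ha', rfl⟩ := ha'
  obtain ⟨b', hb', rfl⟩ := hb'
  have h3 := h s hs1 hs2 a' b' (mem_centralizer_singleton_iff.1 ha') (mem_centralizer_singleton_iff.1 hb')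
  rw [← map_mul, h3, map_mul]

theorem main (A : Subgroup G) (hA : ∀ a ∈ A, ∀ b ∈ A, a * b = b * a)
    (hC : ∀ e ∈ A, e ≠ 1 → e * e = 1 → ∀ g : G, g * e = e * g → g ∈ A)
    {e f : G} (he : e ∈ A) (he1 : e ≠ 1) (he2 : e * e = 1) (hf : f ∈ A) (hf1 : f ≠ 1) (hf2 : f * f = 1)
    (hef : e ≠ f) (hns : ¬ Group.IsSolvable G) :
    ∃ (F : Type) (_ : Field F) (_ : Fintype F), CharP F 2 ∧ 4 ≤ Fintype.card F ∧
      Nonempty (G ⧸ Cfsg.pPrimeCore 2 G ≃* Matrix.ProjectiveSpecialLinearGroup (Fin 2) F) := by
  have hf2' := Fact.mk Nat.prime_two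
  -- a Sylow 2-subgroup inside `A`
  obtain ⟨k, hk⟩ := order_of_sq he2
  obtain ⟨S, heS⟩ := mem_sylow hk
  have hSA : (S : Subgroup G) ≤ A := by
    have hn : Nontrivial S := ⟨⟨⟨e, heS⟩, 1, fun h0 => he1 (congrArg Subtype.val h0)⟩⟩
    have hc : Nontrivial (center S) := S.isPGroup'.center_nontrivial
    have hcp : IsPGroup 2 (center S) := S.isPGroup'.to_subgroup _
    obtain ⟨k, hk⟩ := IsPGroup.iff_card.1 hcp
    have hk0 : k ≠ 0 := by
      rintro rfl
      rw [pow_zero, Nat.card_eq_one_iff_unique] at hk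
      have := hk.1
      exact not_subsingleton (center S) this
    obtain ⟨z, hz⟩ := exists_prime_orderOf_dvd_card' (G := center S) 2 (hk ▸ dvd_pow_self 2 hk0)
    have hz1 : ((z : S) : G) ≠ 1 := by
      intro h0
      have : z = 1 := Subtype.ext (Subtype.ext h0)
      rw [this, orderOf_one] at hz
      norm_num at hz
    have hz2 : ((z : S) : G) * z = 1 := by
      have := pow_orderOf_eq_one z
      rw [hz, pow_two] at this
      exact congrArg (fun y : center S => ((y : S) : G)) this
    have hcen : ∀ x ∈ S, x * ((z : S) : G) = z * x := fun x hx =>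
      congrArg Subtype.val ((mem_center_iff.1 z.2 ⟨x, hx⟩))
    have hzA : ((z : S) : G) ∈ A := hC e he he1 he2 _ (hcen e heS).symm
    intro x hx
    exact hC _ hzA hz1 hz2 x (hcen x hx)
  have hconj : ∀ t : G, t ≠ 1 → t * t = 1 → ∃ g : G, g * t * g⁻¹ ∈ S := by
    intro t ht1 ht2
    obtain ⟨k, hk⟩ := order_of_sq ht2
    obtain ⟨P, hP⟩ := mem_sylow hk
    obtain ⟨g, hg⟩ := MulAction.exists_smul_eq G P S
    refine ⟨g, ?_⟩
    rw [← hg]
    exact Subgroup.smul_mem_pointwise_smul (a := MulAut.conj g) t (P : Subgroup G) hP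
  have hAbC : AbC G := by
    intro t ht1 ht2 a b ha hb
    obtain ⟨g, hg⟩ := hconj t ht1 ht2
    have h1 : g * t * g⁻¹ ≠ 1 := by
      intro h0
      apply ht1
      have := congrArg (fun x => g⁻¹ * x * g) h0
      simpa [mul_assoc] using this
    have h2 : (g * t * g⁻¹) * (g * t * g⁻¹) = 1 := by
      rw [show (g * t * g⁻¹) * (g * t * g⁻¹) = g * (t * t) * g⁻¹ by group, ht2]
      group
    have h3 : ∀ c : G, c * t = t * c → g * c * g⁻¹ ∈ A := by
      intro c hc
      apply hC _ (hSA hg) h1 h2
      rw [show g * c * g⁻¹ * (g * t * g⁻¹) = g * (c * t) * g⁻¹ by group, hc]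
      group
    have h4 := hA _ (h3 a ha) _ (h3 b hb)
    have h5 : g * (a * b) * g⁻¹ = g * (b * a) * g⁻¹ := by
      calc g * (a * b) * g⁻¹ = (g * a * g⁻¹) * (g * b * g⁻¹) := by group
        _ = (g * b * g⁻¹) * (g * a * g⁻¹) := h4
        _ = g * (b * a) * g⁻¹ := by group
    exact mul_left_cancel (mul_right_cancel h5)
  -- `N(S)` is strongly embedded
  let H : Subgroup G := normalizer ((S : Subgroup G) : Set G)
  have hHtop : H ≠ ⊤ := by
    intro htop
    apply hns
    have hSn : (S : Subgroup G).Normal := normalizer_eq_top_iff.1 htop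
    have hodd : Odd (Nat.card (G ⧸ (S : Subgroup G))) := by
      rw [← Nat.not_even_iff_odd, even_iff_two_dvd]
      exact S.not_dvd_index' (Subgroup.index_ne_zero_of_finite)
    have h1 : Group.IsSolvable (G ⧸ (S : Subgroup G)) := FT.solvable_of_odd hodd
    have h2 : Group.IsSolvable (S : Subgroup G) :=
      Group.isSolvable_of_comm (fun a b => Subtype.ext (hAbC.sylow S a.2 b.2))
    refine Group.isSolvable_of_ker_le_range (S : Subgroup G).subtype (QuotientGroup.mk' (S : Subgroup G)) ?_
    rw [QuotientGroup.ker_mk', Subgroup.range_subtype]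
  have hH : Cfsg.IsStronglyEmbedded H := by
    refine ⟨hHtop, ?_, ?_⟩
    · have heH : e ∈ H := le_normalizer heS
      have h1 : orderOf (⟨e, heH⟩ : H) = 2 := by
        rw [Subgroup.orderOf_mk]
        exact orderOf_eq_prime (by rw [pow_two, he2]) he1
      rw [even_iff_two_dvd, ← h1]
      exact orderOf_dvd_natCard _
    · intro g hg
      rw [← Nat.not_even_iff_odd]
      intro hev
      obtain ⟨z, hz⟩ := exists_prime_orderOf_dvd_card' 2 hev.two_dvd
      have hz1 : (z : G) ≠ 1 := by
        intro h0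
        have : z = 1 := Subtype.ext h0
        rw [this, orderOf_one] at hz
        norm_num at hz
      have hz2 : (z : G) * z = 1 := by
        have := pow_orderOf_eq_one z
        rw [hz, pow_two] at this
        exact congrArg Subtype.val this
      obtain ⟨hzH, w, hw, hwz⟩ := z.2
      have hzS : (z : G) ∈ S := mem_of_norm S hz2 hzH
      have hwS : w ∈ S := by
        apply mem_of_norm S _ hw
        apply (MulAut.conj g).injective
        rw [map_mul, map_one]
        have : (MulAut.conj g) w = z := hwz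
        rw [this, hz2]
      have hzS' : (z : G) ∈ g • S := by
        have := Subgroup.smul_mem_pointwise_smul (a := MulAut.conj g) w (S : Subgroup G) hwS
        have h2 : (MulAut.conj g) • w = z := hwz
        rw [h2] at this
        exact this
      have h3 := hAbC.unique S (g • S) hz1 hz2 hzS hzS'
      exact hg (Sylow.smul_eq_iff_mem_normalizer.1 h3.symm)
  -- Bender
  have hcomm : e * f = f * e := hA e he f hf
  by_cases hO : Cfsg.pPrimeCore 2 G ≤ H
  · obtain ⟨L, hLn, -, -, -, hi, hl, -, -⟩ := BS.struct hH hO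
    refine recog ?_ ?_ L hi hl
    · -- centralizers in the quotient
      exact hAbC.quot _ (Solv.pPrimeCore_card_coprime 2)
    · intro N hN hNodd
      have h1 := Solv.le_pPrimeCore (p := 2) hN (Nat.coprime_two_right.2 hNodd)
      rw [Solv.pPrimeCore_quotient_pPrimeCore] at h1
      exact le_bot_iff.1 h1
  · exfalso
    have he' : orderOf e = 2 := orderOf_eq_prime (by rw [pow_two, he2]) he1
    have hf' : orderOf f = 2 := orderOf_eq_prime (by rw [pow_two, hf2]) hf1
    obtain ⟨-, h2⟩ := BS.rankOne_of hH hO e he'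
    exact hef (h2 f (mem_centralizer_singleton_iff.2 hcomm.symm) hf').symm

end

end Cfsg.Agent.H40.EvenL
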