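import Mathlib
import Cfsg.Prelude.Def_SteinbergCover
import Cfsg.Prelude.Def_ChevG2
import Cfsg.Prelude.Def_ChevB2
import Cfsg.Prelude.Def_ChevD4
import Cfsg.Prelude.Def_ChevF4
import Cfsg.Prelude.Def_ChevE6
import Cfsg.Prelude.Def_ChevE7
import Cfsg.Prelude.Def_ChevE8
set_option autoImplicit false
set_option maxRecDepth 100000
namespace Cfsg.Agent.H40
open Cfsg.Lie

/-- `(r, s, k)`: the commutator of the roots `r`, `s` is a single root element for `k` with coefficient `±1` -/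
def single (D : ChevalleyDatum) (e : ℕ × ℕ × ℕ) : Bool :=
  decide (e.1 < D.nroots) && (decide (e.2.1 < D.nroots) && (decide (e.2.1 ≠ e.1) && (decide (e.2.1 ≠ D.neg e.1) &&
    (decide (D.commTerms e.1 e.2.1 = [(e.2.2, 1, 1, 1)]) || decide (D.commTerms e.1 e.2.1 = [(e.2.2, -1, 1, 1)])))))

/-- `(r, s, k, l)`: the commutator of the roots `r`, `s` starts with terms `(k, ±1, 1, 1), (l, ±1, 1, 2)` and the
remaining terms have root in the list `A` -/
def double (D : ChevalleyDatum) (A : List ℕ) (e : ℕ × ℕ × ℕ × ℕ) : Bool :=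
  decide (e.1 < D.nroots) && (decide (e.2.1 < D.nroots) && (decide (e.2.1 ≠ e.1) && (decide (e.2.1 ≠ D.neg e.1) &&
    (match D.commTerms e.1 e.2.1 with
    | (a, c, i, j) :: (a', c', i', j') :: L => decide (a = e.2.2.1) && (decide (a' = e.2.2.2) && (decide (i = 1) && (decide (j = 1) &&
       (decide (i' = 1) && (decide (j' = 2) && (decide (c = 1 ∨ c = -1) && (decide (c' = 1 ∨ c' = -1) && L.all fun t => decide (t.1 ∈ A))))))))
    | _ => false))))

def slD4 : List (ℕ × ℕ × ℕ) := [(1, 9, 0), (0, 14, 1), (0, 15, 2), (0, 16, 3), (0, 17, 4), (1, 17, 5), (0, 19, 6), (0, 20, 7), (0, 21, 8), (0, 22, 9), (1, 20, 10), (1, 21, 11), (2, 22, 12), (3, 22, 13), (1, 23, 14), (2, 23, 15), (3, 23, 16), (4, 23, 17), (6, 22, 18), (6, 23, 19), (7, 23, 20), (8, 23, 21), (9, 23, 22), (14, 22, 23)]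

theorem slD4_ok : slD4.all (single chevD4) = true := by decide +kernel

theorem slD4_map : slD4.map (fun e => e.2.2) = List.range 24 := by decide +kernel

def slF4 : List (ℕ × ℕ × ℕ) := [(1, 23, 0), (0, 24, 1), (0, 26, 2), (7, 14, 3), (0, 31, 4), (0, 32, 5), (1, 32, 6), (3, 33, 7), (3, 34, 8), (3, 35, 9), (3, 36, 10), (3, 37, 11), (3, 38, 12), (3, 39, 13), (3, 40, 14), (0, 42, 15), (0, 43, 16), (1, 43, 17), (7, 37, 18), (7, 38, 19), (7, 39, 20), (0, 45, 21), (1, 45, 22), (0, 46, 23), (1, 47, 24), (2, 46, 25), (2, 47, 26), (8, 40, 27), (9, 40, 28), (10, 40, 29), (4, 46, 30), (4, 47, 31), (5, 47, 32), (7, 44, 33), (8, 44, 34), (9, 44, 35), (10, 44, 36), (11, 44, 37), (12, 44, 38), (13, 44, 39), (14, 44, 40), (15, 46, 41), (15, 47, 42), (16, 47, 43), (33, 40, 44), (21, 47, 45), (23, 47, 46), (24, 46, 47)]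

theorem slF4_ok : slF4.all (single chevF4) = true := by decide +kernel

theorem slF4_map : slF4.map (fun e => e.2.2) = List.range 48 := by decide +kernel

def slE6 : List (ℕ × ℕ × ℕ) := [(1, 25, 0), (0, 46, 1), (0, 47, 2), (0, 48, 3), (0, 49, 4), (0, 50, 5), (0, 51, 6), (0, 52, 7), (0, 53, 8), (0, 54, 9), (0, 55, 10), (1, 53, 11), (1, 54, 12), (1, 55, 13), (2, 55, 14), (5, 55, 15), (0, 61, 16), (0, 62, 17), (0, 63, 18), (0, 64, 19), (0, 65, 20), (0, 66, 21), (0, 67, 22), (0, 68, 23), (0, 69, 24), (0, 70, 25), (1, 64, 26), (1, 65, 27), (1, 66, 28), (2, 66, 29), (1, 67, 30), (1, 68, 31), (1, 69, 32), (2, 67, 33), (2, 68, 34), (3, 67, 35), (4, 68, 36), (3, 69, 37), (4, 69, 38), (2, 70, 39), (3, 70, 40), (4, 70, 41), (5, 69, 42), (5, 70, 43), (6, 70, 44), (7, 70, 45), (1, 71, 46), (2, 71, 47), (3, 71, 48), (4, 71, 49), (5, 71, 50), (6, 71, 51), (7, 71, 52), (8, 71, 53), (9, 71, 54), (10, 71, 55), (16, 66, 56), (16, 69, 57), (16, 70, 58), (17, 70,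 59), (18, 70, 60), (16, 71, 61), (17, 71, 62), (18, 71, 63), (19, 71, 64), (20, 71, 65), (21, 71, 66), (22, 71, 67), (23, 71, 68), (24, 71, 69), (25, 71, 70), (46, 70, 71)]

theorem slE6_ok : slE6.all (single chevE6) = true := by decide +kernel

theorem slE6_map : slE6.map (fun e => e.2.2) = List.range 72 := by decide +kernel

def slE7 : List (ℕ × ℕ × ℕ) := [(1, 32, 0), (0, 93, 1), (0, 94, 2), (0, 95, 3), (0, 96, 4), (0, 97, 5), (0, 98, 6), (0, 99, 7), (0, 100, 8), (0, 101, 9), (0, 102, 10), (0, 103, 11), (0, 104, 12), (0, 105, 13), (0, 106, 14), (0, 107, 15), (0, 108, 16), (0, 109, 17), (0, 110, 18), (0, 111, 19), (0, 112, 20), (0, 113, 21), (0, 114, 22), (0, 115, 23), (0, 116, 24), (0, 117, 25), (0, 118, 26), (0, 119, 27), (0, 120, 28), (0, 121, 29), (0, 122, 30), (0, 123, 31), (0, 124, 32), (1, 109, 33), (1, 110, 34), (1, 111, 35), (1, 112, 36), (1, 113, 37), (1, 114, 38), (1, 115, 39), (1, 116, 40), (1, 117, 41), (1, 118, 42), (2, 115, 43),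 (2, 116, 44), (2, 117, 45), (2, 118, 46), (3, 118, 47), (1, 119, 48), (1, 120, 49), (1, 121, 50), (1, 122, 51), (1, 123, 52), (2, 119, 53), (2, 120, 54), (2, 121, 55), (2, 122, 56), (3, 119, 57), (3, 120, 58), (3, 121, 59), (4, 119, 60), (4, 120, 61), (5, 119, 62), (6, 120, 63), (5, 121, 64), (6, 121, 65), (4, 122, 66), (5, 122, 67), (6, 122, 68), (3, 123, 69), (4, 123, 70), (5, 123, 71), (6, 123, 72), (2, 124, 73), (3, 124, 74), (4, 124, 75), (5, 124, 76), (6, 124, 77), (7, 122, 78), (7, 123, 79), (8, 123, 80), (9, 123, 81), (10, 123, 82), (7, 124, 83), (8, 124, 84), (9, 124, 85), (10, 124, 86), (11, 124, 87), (12, 124, 88), (13, 124, 89), (14, 124, 90), (15, 124, 91), (16, 124, 92), (1, 125, 93), (2, 125, 94), (3, 125, 95), (4, 125, 96), (5, 125, 97), (6, 125, 98), (7, 125, 99), (8, 125, 100), (9, 125, 101), (10, 125, 102), (11, 125, 103), (12, 125, 104), (13, 125, 105), (14, 125, 106), (15, 125, 107), (16, 125, 108), (17, 125, 109), (18, 125,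 110), (19, 125, 111), (20, 125, 112), (21, 125, 113), (22, 125, 114), (23, 125, 115), (24, 125, 116), (25, 125, 117), (26, 125, 118), (27, 125, 119), (28, 125, 120), (29, 125, 121), (30, 125, 122), (31, 125, 123), (32, 125, 124), (93, 124, 125)]

theorem slE7_ok : slE7.all (single chevE7) = true := by decide +kernel

theorem slE7_map : slE7.map (fun e => e.2.2) = List.range 126 := by decide +kernel

def slE8 : List (ℕ × ℕ × ℕ) := [(1, 119, 0), (0, 120, 1), (0, 122, 2), (0, 125, 3), (0, 129, 4), (0, 134, 5), (0, 140, 6), (0, 146, 7), (0, 151, 8), (0, 155, 9), (0, 158, 10), (0, 160, 11), (0, 161, 12), (1, 161, 13), (0, 168, 14), (0, 173, 15), (0, 177, 16), (0, 180, 17), (0, 182, 18), (0, 183, 19), (1, 183, 20), (0, 187, 21), (0, 190, 22), (0, 192, 23), (0, 193, 24), (1, 193, 25), (0, 196, 26), (0, 198, 27), (0, 199, 28), (1, 199, 29), (0, 201, 30), (0, 202, 31), (1, 202, 32), (0, 203, 33), (1, 203, 34), (2, 203, 35), (0, 206, 36), (0, 208, 37), (0,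 209, 38), (1, 209, 39), (0, 211, 40), (0, 212, 41), (1, 212, 42), (0, 213, 43), (1, 213, 44), (2, 213, 45), (0, 215, 46), (0, 216, 47), (1, 216, 48), (0, 217, 49), (1, 217, 50), (2, 217, 51), (0, 218, 52), (1, 218, 53), (2, 218, 54), (3, 218, 55), (0, 220, 56), (0, 221, 57), (1, 221, 58), (0, 222, 59), (1, 222, 60), (2, 222, 61), (0, 223, 62), (1, 223, 63), (2, 223, 64), (3, 223, 65), (0, 224, 66), (1, 224, 67), (2, 224, 68), (3, 224, 69), (4, 224, 70), (0, 225, 71), (1, 225, 72), (2, 225, 73), (3, 225, 74), (4, 225, 75), (5, 225, 76), (6, 225, 77), (0, 227, 78), (0, 228, 79), (1, 228, 80), (0, 229, 81), (1, 229, 82), (2, 229, 83), (0, 230, 84), (1, 230, 85), (2, 230, 86), (3, 230, 87), (0, 231, 88), (1, 231, 89), (2, 231, 90), (3, 231, 91), (4, 231, 92), (0, 232, 93), (1, 232, 94), (2, 232, 95), (3, 232, 96), (4, 232, 97), (5, 232, 98), (0, 233, 99), (1, 233, 100), (2, 233, 101), (3, 233, 102), (4, 233, 103), (5, 233, 104), (0, 234, 105), (1,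 234, 106), (2, 234, 107), (3, 234, 108), (4, 234, 109), (0, 235, 110), (1, 235, 111), (2, 235, 112), (3, 235, 113), (0, 236, 114), (1, 236, 115), (2, 236, 116), (0, 237, 117), (1, 237, 118), (0, 238, 119), (1, 239, 120), (2, 238, 121), (2, 239, 122), (3, 237, 123), (3, 238, 124), (3, 239, 125), (4, 236, 126), (4, 237, 127), (4, 238, 128), (4, 239, 129), (5, 235, 130), (5, 236, 131), (5, 237, 132), (5, 238, 133), (5, 239, 134), (6, 234, 135), (6, 235, 136), (6, 236, 137), (6, 237, 138), (6, 238, 139), (6, 239, 140), (7, 234, 141), (7, 235, 142), (7, 236, 143), (7, 237, 144), (7, 238, 145), (7, 239, 146), (8, 235, 147), (8, 236, 148), (8, 237, 149), (8, 238, 150), (8, 239, 151), (9, 236, 152), (9, 237, 153), (9, 238, 154), (9, 239, 155), (10, 237, 156), (10, 238, 157), (10, 239, 158), (11, 238, 159), (11, 239, 160), (12, 239, 161), (14, 233, 162), (14, 234, 163), (14, 235, 164), (14, 236, 165), (14, 237, 166), (14, 238, 167), (14, 239, 168), (15,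 235, 169), (15, 236, 170), (15, 237, 171), (15, 238, 172), (15, 239, 173), (16, 236, 174), (16, 237, 175), (16, 238, 176), (16, 239, 177), (17, 237, 178), (17, 238, 179), (17, 239, 180), (18, 238, 181), (18, 239, 182), (19, 239, 183), (21, 236, 184), (21, 237, 185), (21, 238, 186), (21, 239, 187), (22, 237, 188), (22, 238, 189), (22, 239, 190), (23, 238, 191), (23, 239, 192), (24, 239, 193), (26, 237, 194), (26, 238, 195), (26, 239, 196), (27, 238, 197), (27, 239, 198), (28, 239, 199), (30, 238, 200), (30, 239, 201), (31, 239, 202), (33, 239, 203), (36, 237, 204), (36, 238, 205), (36, 239, 206), (37, 238, 207), (37, 239, 208), (38, 239, 209), (40, 238, 210), (40, 239, 211), (41, 239, 212), (43, 239, 213), (46, 238, 214), (46, 239, 215), (47, 239, 216), (49, 239, 217), (52, 239, 218), (56, 238, 219), (56, 239, 220), (57, 239, 221), (59, 239, 222), (62, 239, 223), (66, 239, 224), (71, 239, 225), (78, 238, 226), (78, 239, 227), (79, 239, 228), (81,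 239, 229), (84, 239, 230), (88, 239, 231), (93, 239, 232), (99, 239, 233), (105, 239, 234), (110, 239, 235), (114, 239, 236), (117, 239, 237), (119, 239, 238), (120, 238, 239)]

theorem slE8_ok : slE8.all (single chevE8) = true := by decide +kernel

theorem slE8_map : slE8.map (fun e => e.2.2) = List.range 240 := by decide +kernel

def slG2 : List (ℕ × ℕ × ℕ) := [(1, 5, 0), (0, 6, 1), (0, 10, 5), (1, 11, 6), (5, 11, 10), (6, 10, 11)]

theorem slG2_ok : slG2.all (single chevG2) = true := by decide +kernel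

theorem slG2_map : slG2.map (fun e => e.2.2) = [0, 1, 5, 6, 10, 11] := by decide +kernel

def dlB2 : List (ℕ × ℕ × ℕ × ℕ) := [(0, 5, 1, 3), (0, 6, 2, 4), (3, 2, 1, 0), (3, 6, 5, 7), (4, 1, 2, 0), (4, 5, 6, 7), (7, 1, 5, 3), (7, 2, 6, 4)]

theorem dlB2_ok : dlB2.all (double chevB2 ([] : List ℕ)) = true := by decide +kernel

def dlG2 : List (ℕ × ℕ × ℕ × ℕ) := [(0, 8, 2, 4), (0, 9, 3, 7), (1, 7, 2, 3), (1, 9, 4, 8), (5, 4, 3, 2), (5, 8, 7, 9), (6, 3, 4, 2), (6, 7, 8, 9), (10, 2, 7, 3), (10, 4, 9, 8), (11, 2, 8, 4), (11, 3, 9, 7)]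

theorem dlG2_ok : dlG2.all (double chevG2 [0, 1, 5, 6, 10, 11]) = true := by decide +kernel

end Cfsg.Agent.H40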