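import Mathlib

/-!
# Transitive linear groups on `F_p ^ 4` contain the inversion (`p` odd)
-/

set_option autoImplicit false

namespace Cfsg.Agent.H40.GN3b

open MulAction

theorem dvd_ncard_of_index {S W : Type*} [Group S] [Finite S] [MulAction S W] [Finite W] (X : Set W)
    (hX : ∀ s : S, ∀ w ∈ X, s • w ∈ X) (d : ℕ) (hd : ∀ w ∈ X, d ∣ (stabilizer S w).index) : d ∣ X.ncard := by
  classical
  let Y : SubMulAction S W := { carrier := X, smul_mem' := fun s {w} hw => hX s w hw }
  have hY : Nat.card Y = X.ncard := Nat.card_coe_set_eq X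
  have : Finite Y := Subtype.finite
  have : Fintype (Quotient (orbitRel S Y)) := Fintype.ofFinite _
  rw [← hY, Nat.card_congr (selfEquivSigmaOrbitsQuotientStabilizer S Y), Nat.card_sigma]
  refine Finset.dvd_sum (fun ω _ => ?_)
  have h1 : stabilizer S (Quotient.out ω) = stabilizer S ((Quotient.out ω : Y) : W) :=
    SubMulAction.stabilizer_of_subMul _
  have h2 := hd _ (Quotient.out ω).2
  rw [← h1] at h2
  exact h2

theorem gn3b {E W : Type*} [Group E] [Finite E] [CommGroup W] [Finite W] [MulDistribMulAction E W] (p : ℕ)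
    [Fact p.Prime] (hp2 : p ≠ 2) (hW : ∀ w : W, w ^ p = 1)
    (htr : ∀ v w : W, v ≠ 1 → w ≠ 1 → ∃ g : E, g • v = w) (hc : Nat.card W = p ^ 4)
    (hf : ∀ g : E, (∀ w : W, g • w = w) → g = 1) (hinv : ∀ g : E, ¬ ∀ w : W, g • w = w⁻¹) : False := by
  classical
  have h2 := Fact.mk Nat.prime_two
  have hp : p.Prime := Fact.out
  have hpodd : Odd p := hp.odd_of_ne_two hp2
  have hp3 : 3 ≤ p := by
    have := hp.two_le
    omega
  -- the 2-part of `p ^ 2 - 1`
  obtain ⟨a, m, hm, ham⟩ := Nat.exists_eq_two_pow_mul_odd (n := p ^ 2 - 1) (by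
    have : 3 ^ 2 ≤ p ^ 2 := Nat.pow_le_pow_left hp3 2
    omega)
  have hnot : ¬ 2 ^ (a + 1) ∣ p ^ 2 - 1 := by
    rw [ham, pow_succ]
    intro h
    have h1 := Nat.dvd_of_mul_dvd_mul_left (by positivity) h
    exact (Nat.not_even_iff_odd.2 hm) (even_iff_two_dvd.2 h1)
  have h4 : p ^ 4 - 1 = (p ^ 2 - 1) * (p ^ 2 + 1) := by
    obtain ⟨r, hr⟩ : ∃ r, p ^ 2 = r + 1 := ⟨p ^ 2 - 1, by
      have : 0 < p ^ 2 := by positivity
      omega⟩
    have : p ^ 4 = (p ^ 2) * (p ^ 2) := by ring
    rw [this, hr]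
    simp only [Nat.add_sub_cancel]
    have : (r + 1) * (r + 1) = r * (r + 1 + 1) + 1 := by ring
    rw [this]
    simp
  have h4d : 2 ^ (a + 1) ∣ p ^ 4 - 1 := by
    rw [h4, ham, pow_succ]
    have h1 : 2 ∣ p ^ 2 + 1 := by
      have : Odd (p ^ 2) := hpodd.pow
      exact (this.add_one).two_dvd
    exact Nat.mul_dvd_mul (dvd_mul_right _ _) h1
  -- orbits
  have hW1 : ∃ w : W, w ≠ 1 := by
    by_contra hcon
    push Not at hcon
    have : Nat.card W = 1 := Nat.card_eq_one_iff_unique.2 ⟨⟨fun a b => by rw [hcon a, hcon b]⟩, ⟨1⟩⟩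
    rw [this] at hc
    have : 1 < p ^ 4 := Nat.one_lt_pow (by norm_num) hp.one_lt
    omega
  have hidx : ∀ w : W, w ≠ 1 → (stabilizer E w).index = p ^ 4 - 1 := by
    intro w hw
    rw [index_stabilizer]
    have h1 : orbit E w = {(1 : W)}ᶜ := by
      ext v
      rw [mem_orbit_iff, Set.mem_compl_iff, Set.mem_singleton_iff]
      constructor
      · rintro ⟨g, rfl⟩ h0
        apply hw
        have := congrArg (fun x => g⁻¹ • x) h0
        simpa using this
      · intro hv
        exact htr w v hw hv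
    rw [h1, Set.ncard_compl, Set.ncard_singleton, hc]
  obtain ⟨S⟩ : Nonempty (Sylow 2 E) := inferInstance
  obtain ⟨w₀, hw₀⟩ := hW1
  have hE : Nat.card E = Nat.card (stabilizer E w₀) * (p ^ 4 - 1) := by
    rw [← hidx w₀ hw₀, Subgroup.card_mul_index]
  have hS1 : Nontrivial S := by
    have h1 : 2 ∣ Nat.card E := by
      rw [hE]
      exact Dvd.dvd.mul_left ((dvd_pow_self 2 (by omega)).trans h4d) _
    have h3 := S.ne_bot_of_dvd_card h1
    exact (Subgroup.nontrivial_iff_ne_bot _).2 h3
  -- a central involution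
  have hcn : Nontrivial (Subgroup.center S) := S.isPGroup'.center_nontrivial
  have hcp : IsPGroup 2 (Subgroup.center S) := S.isPGroup'.to_subgroup _
  obtain ⟨k, hk⟩ := IsPGroup.iff_card.1 hcp
  have hk0 : k ≠ 0 := by
    rintro rfl
    rw [pow_zero, Nat.card_eq_one_iff_unique] at hk
    have := hk.1
    exact not_subsingleton (Subgroup.center S) this
  obtain ⟨z, hz⟩ := exists_prime_orderOf_dvd_card' (G := Subgroup.center S) 2 (hk ▸ dvd_pow_self 2 hk0)
  have hz1 : ((z : S) : E) ≠ 1 := by
    intro h0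
    have : z = 1 := Subtype.ext (Subtype.ext h0)
    rw [this, orderOf_one] at hz
    norm_num at hz
  have hz2 : ((z : S) : E) * z = 1 := by
    have := pow_orderOf_eq_one z
    rw [hz, pow_two] at this
    exact congrArg (fun y : Subgroup.center S => ((y : S) : E)) this
  have hcen : ∀ x ∈ S, x * ((z : S) : E) = z * x := fun x hx =>
    congrArg Subtype.val ((Subgroup.mem_center_iff.1 z.2 ⟨x, hx⟩))
  set y : E := ((z : S) : E) with hy
  -- the fixed points of the involution
  let Wp : Subgroup W :=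
    { carrier := {w | y • w = w}
      mul_mem' := fun {a b} ha hb => by
        have ha' : y • a = a := ha
        have hb' : y • b = b := hb
        show y • (a * b) = a * b
        rw [smul_mul', ha', hb']
      one_mem' := smul_one y
      inv_mem' := fun {a} ha => by
        have ha' : y • a = a := ha
        show y • a⁻¹ = a⁻¹
        rw [smul_inv', ha'] }
  have hWpm : ∀ w : W, w ∈ Wp ↔ y • w = w := fun w => Iff.rfl
  have hcard : ∃ i ≤ 4, Nat.card Wp = p ^ i := by
    have h1 : Nat.card Wp ∣ p ^ 4 := by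
      rw [← hc]
      exact Subgroup.card_subgroup_dvd_card _
    exact (Nat.dvd_prime_pow hp).1 h1
  obtain ⟨i, hi4, hi⟩ := hcard
  have hi0 : i ≠ 0 := by
    rintro rfl
    rw [pow_zero, Subgroup.card_eq_one] at hi
    apply hinv y
    intro w
    have h1 : w * y • w ∈ Wp := by
      rw [hWpm, smul_mul', ← mul_smul, hz2, one_smul, mul_comm]
    rw [hi, Subgroup.mem_bot] at h1
    exact (inv_eq_of_mul_eq_one_right h1).symm
  have hi4' : i ≠ 4 := by
    rintro rfl
    have h1 : Wp = ⊤ := by
      apply Subgroup.eq_top_of_card_eq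
      rw [hi, hc]
    apply hz1
    apply hf
    intro w
    have : w ∈ Wp := by rw [h1]; trivial
    exact (hWpm w).1 this
  -- divisibility
  have hdiv : 2 ^ (a + 1) ∣ (({1}ᶜ : Set W) ∩ (Wp : Set W)).ncard := by
    apply dvd_ncard_of_index (S := S)
    · rintro s w ⟨hw1, hwp⟩
      refine ⟨?_, ?_⟩
      · intro h0
        apply hw1
        have h0' : (s : S) • w = 1 := h0
        have := congrArg (fun x => (s : S)⁻¹ • x) h0'
        simpa using this
      · show y • ((s : E) • w) = (s : E) • w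
        have hwp' : y • w = w := hwp
        rw [← mul_smul, ← hcen s s.2, mul_smul, hwp']
    · rintro w ⟨hw1, -⟩
      have hw1' : w ≠ 1 := hw1
      -- orders
      obtain ⟨t, ht⟩ := IsPGroup.iff_card.1 S.isPGroup'
      have hst : IsPGroup 2 (stabilizer S w) := S.isPGroup'.to_subgroup _
      obtain ⟨s, hs⟩ := IsPGroup.iff_card.1 hst
      have h1 : 2 ^ s ∣ Nat.card (stabilizer E w) := by
        rw [← hs]
        have hinj : Function.Injective (fun x : stabilizer S w => (⟨((x : S) : E), x.2⟩ : stabilizer E w)) := by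
          intro x x' hxx
          have := congrArg (fun v : stabilizer E w => (v : E)) hxx
          exact Subtype.ext (Subtype.ext this)
        let φ : stabilizer S w →* stabilizer E w :=
          { toFun := fun x => ⟨((x : S) : E), x.2⟩
            map_one' := rfl
            map_mul' := fun _ _ => rfl }
        exact Subgroup.card_dvd_of_injective φ hinj
      have h3 : 2 ^ (s + (a + 1)) ∣ Nat.card E := by
        rw [← Subgroup.card_mul_index (stabilizer E w), hidx w hw1', pow_add]
        exact Nat.mul_dvd_mul h1 h4d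
      have h5 := S.pow_dvd_card_of_pow_dvd_card h3
      have h6 := Subgroup.card_mul_index (stabilizer S w)
      rw [hs] at h6
      have h5' : 2 ^ s * 2 ^ (a + 1) ∣ 2 ^ s * (stabilizer S w).index := by
        rw [h6, ← pow_add]
        exact h5
      exact Nat.dvd_of_mul_dvd_mul_left (by positivity) h5'
  have hXc : (({1}ᶜ : Set W) ∩ (Wp : Set W)).ncard = p ^ i - 1 := by
    have h1 : (({1}ᶜ : Set W) ∩ (Wp : Set W)) = (Wp : Set W) \ {1} := by
      ext w
      simp [and_comm]
    rw [h1, Set.ncard_sdiff_singleton_of_mem (one_mem Wp), ← hi]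
    rfl
  rw [hXc] at hdiv
  apply hnot
  have hcases : i = 1 ∨ i = 2 ∨ i = 3 := by omega
  have hp21 : p ^ 2 - 1 = (p - 1) * (p + 1) := by
    obtain ⟨r, rfl⟩ : ∃ r, p = r + 1 := ⟨p - 1, by omega⟩
    have : (r + 1) ^ 2 = r * (r + 1 + 1) + 1 := by ring
    rw [this]
    simp
  rcases hcases with rfl | rfl | rfl
  · rw [pow_one] at hdiv
    rw [hp21]
    exact hdiv.mul_right _
  · exact hdiv
  · have hp31 : p ^ 3 - 1 = (p - 1) * (p ^ 2 + p + 1) := by
      obtain ⟨r, rfl⟩ : ∃ r, p = r + 1 := ⟨p - 1, by omega⟩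
      have : (r + 1) ^ 3 = r * ((r + 1) ^ 2 + (r + 1) + 1) + 1 := by ring
      rw [this]
      simp
    have hodd : Odd (p ^ 2 + p + 1) := by
      have h1 : Even (p ^ 2 + p) := by
        rw [pow_two]
        have := Nat.even_mul_succ_self p
        rwa [Nat.mul_succ] at this
      exact h1.add_one
    rw [hp31] at hdiv
    have h7 : 2 ^ (a + 1) ∣ p - 1 :=
      (Nat.Coprime.pow_left (a + 1) (Nat.coprime_two_left.2 hodd)).dvd_of_dvd_mul_right hdiv
    rw [hp21]
    exact h7.mul_right _

end Cfsg.Agent.H40.GN3b
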